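import Groth.Agent.KFlatLib.Scheme.ExtZero
import Groth.Agent.EtFound.AbRecollement
import Groth.Agent.EtFound.PullStalk
import Groth.Agent.EtFound.PushImm
import Groth.Prelude.Def_DCoh2
import Mathlib.Algebra.Homology.DerivedCategory.ExactFunctor
import Mathlib.CategoryTheory.Localization.Adjunction

/-! derived direct image along a closed immersion -/

set_option autoImplicit false
set_option backward.isDefEq.respectTransparency false
set_option backward.isDefEq.respectTransparency.types false
universe u

open CategoryTheory CategoryTheory.Limits AlgebraicGeometry Opposite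
attribute [local instance] HasDerivedCategory.standard

namespace Groth.Agent.ClosedDer5

open Groth.Agent.EtFound

variable {Z X U : Scheme.{u}} (i : Z ⟶ X) [IsClosedImmersion i] (j : U ⟶ X)
  (hcov : ∀ x : X, x ∈ Set.range i ∨ x ∈ Set.range j)

include hcov in
/-- the two inverse images detect isomorphisms -/
theorem isIso_of_pulls {F G : EtCoh.Ab X} (a : F ⟶ G) [IsIso ((EtCoh.pull i).map a)]
    [IsIso ((EtCoh.pull j).map a)] : IsIso a := by
  refine (isIso_iff_stalks a).2 fun Ω _ _ ξ => ?_
  rcases hcov (ξ.base (default : Spec (CommRingCat.of Ω))) with h | h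
  · exact isIso_stalk_of_lift i a ξ h fun k _ _ z =>
      (NatIso.isIso_map_iff (stalkPullIso i z) a).1
        (inferInstanceAs (IsIso ((EtCoh.stalk z).map ((EtCoh.pull i).map a))))
  · exact isIso_stalk_of_lift j a ξ h fun k _ _ z =>
      (NatIso.isIso_map_iff (stalkPullIso j z) a).1
        (inferInstanceAs (IsIso ((EtCoh.stalk z).map ((EtCoh.pull j).map a))))

variable [PreservesFiniteLimits (EtCoh.pull i)] [PreservesFiniteLimits (EtCoh.pull j)]
  [(EtCoh.pull i).Additive] [(EtCoh.pull j).Additive]
  [PreservesFiniteColimits (EtCoh.pull i)] [PreservesFiniteColimits (EtCoh.pull j)]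

include hcov in
theorem quasiIso_of_pulls {K L : CochainComplex (EtCoh.Ab X) ℤ} (u : K ⟶ L)
    [QuasiIso (((EtCoh.pull i).mapHomologicalComplex _).map u)]
    [QuasiIso (((EtCoh.pull j).mapHomologicalComplex _).map u)] : QuasiIso u := by
  refine ⟨fun n => (quasiIsoAt_iff_isIso_homologyMap u n).2 ?_⟩
  haveI : IsIso ((EtCoh.pull i).map (HomologicalComplex.homologyMap u n)) := by
    have hq : QuasiIso (((EtCoh.pull i).mapHomologicalComplex _).map u) := inferInstance
    have h : IsIso (HomologicalComplex.homologyMap (((EtCoh.pull i).mapHomologicalComplex _).map u) n) := by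
      exact (quasiIsoAt_iff_isIso_homologyMap _ _).1 (hq.quasiIsoAt n)
    exact (NatIso.isIso_map_iff (ShortComplex.homologyFunctorIso (EtCoh.pull i))
      ((HomologicalComplex.shortComplexFunctor (EtCoh.Ab X) (ComplexShape.up ℤ) n).map u)).1 h
  haveI : IsIso ((EtCoh.pull j).map (HomologicalComplex.homologyMap u n)) := by
    have hq : QuasiIso (((EtCoh.pull j).mapHomologicalComplex _).map u) := inferInstance
    have h : IsIso (HomologicalComplex.homologyMap (((EtCoh.pull j).mapHomologicalComplex _).map u) n) := by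
      exact (quasiIsoAt_iff_isIso_homologyMap _ _).1 (hq.quasiIsoAt n)
    exact (NatIso.isIso_map_iff (ShortComplex.homologyFunctorIso (EtCoh.pull j))
      ((HomologicalComplex.shortComplexFunctor (EtCoh.Ab X) (ComplexShape.up ℤ) n).map u)).1 h
  exact isIso_of_pulls i j hcov _

include hcov in
theorem main [(EtCoh.push i).Additive] [PreservesFiniteLimits (EtCoh.push i)] [PreservesFiniteColimits (EtCoh.push i)]
    (hdisj : ∀ x : X, x ∈ Set.range i → x ∉ Set.range j) :
    ((EtCoh.push i).mapDerivedCategory.Full ∧ (EtCoh.push i).mapDerivedCategory.Faithful) ∧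
      ∀ K : DCoh.DEt X,
        (EtCoh.push i).mapDerivedCategory.essImage K ↔
          ∀ n : ℤ, IsZero ((EtCoh.pull j).obj (DCoh.HDEt K n)) := by
  let ac := Groth.Agent.KFlatLib.adjCx (EtCoh.pullPushAdj i) (ComplexShape.up ℤ)
  letI : CatCommSq ((EtCoh.pull i).mapHomologicalComplex (ComplexShape.up ℤ)) DerivedCategory.Q
      DerivedCategory.Q (EtCoh.pull i).mapDerivedCategory := ⟨(EtCoh.pull i).mapDerivedCategoryFactors.symm⟩
  letI : CatCommSq ((EtCoh.push i).mapHomologicalComplex (ComplexShape.up ℤ)) DerivedCategory.Q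
      DerivedCategory.Q (EtCoh.push i).mapDerivedCategory := ⟨(EtCoh.push i).mapDerivedCategoryFactors.symm⟩
  let ad := ac.localization DerivedCategory.Q
    (HomologicalComplex.quasiIso (EtCoh.Ab X) (ComplexShape.up ℤ)) DerivedCategory.Q
    (HomologicalComplex.quasiIso (EtCoh.Ab Z) (ComplexShape.up ℤ))
    (EtCoh.pull i).mapDerivedCategory (EtCoh.push i).mapDerivedCategory
  have hcu : ∀ G : EtCoh.Ab Z, IsIso ((EtCoh.pullPushAdj i).counit.app G) := fun G =>
    counit_isIso (A := AddCommGrpCat.{u + 1}) i (liftable_of_isClosedImmersion i) G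
  haveI : ∀ C, IsIso (ac.counit.app C) := fun C => by
    haveI : ∀ n, IsIso ((ac.counit.app C).f n) := fun n => hcu (C.X n)
    exact HomologicalComplex.Hom.isIso_of_components _
  have hε : ∀ D, IsIso (ad.counit.app D) := fun D => by
    rw [← NatTrans.isIso_app_iff_of_iso ad.counit (DerivedCategory.Q.objObjPreimageIso D)]
    rw [Adjunction.localization_counit_app]
    infer_instance
  haveI : IsIso ad.counit := NatIso.isIso_of_isIso_app _
  have hFF := ad.fullyFaithfulROfIsIsoCounit
  have hjz : ∀ G : EtCoh.Ab Z, IsZero ((EtCoh.pull j).obj ((EtCoh.push i).obj G)) := fun G => by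
    refine (IsZero.iff_id_eq_zero _).2 (eq_of_stalks _ _ fun Ω _ _ z => ?_)
    have h0 : IsZero ((EtCoh.stalk z).obj ((EtCoh.pull j).obj ((EtCoh.push i).obj G))) :=
      (isZero_stalk_push_closed i G (z ≫ j) fun h => hdisj _ h
        ⟨_, (Scheme.Hom.comp_apply z j _).symm⟩).of_iso
        ((stalkPullIso j z).app ((EtCoh.push i).obj G))
    exact h0.eq_of_src _ _
  refine ⟨⟨hFF.full, hFF.faithful⟩, fun K => ⟨?_, fun h => ?_⟩⟩
  · rintro ⟨D, ⟨e⟩⟩ n
    let C := DerivedCategory.Q.objPreimage D
    let RC := ((EtCoh.push i).mapHomologicalComplex (ComplexShape.up ℤ)).obj C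
    let e' : DerivedCategory.Q.obj RC ≅ K :=
      ((EtCoh.push i).mapDerivedCategoryFactors.app C).symm ≪≫
        (EtCoh.push i).mapDerivedCategory.mapIso (DerivedCategory.Q.objObjPreimageIso D) ≪≫ e
    refine IsZero.of_iso ?_ ((EtCoh.pull j).mapIso
      ((DerivedCategory.homologyFunctor (EtCoh.Ab X) n).mapIso e'.symm ≪≫
        (DerivedCategory.homologyFunctorFactors (EtCoh.Ab X) n).app RC))
    refine IsZero.of_iso ?_ ((RC.sc n).mapHomologyIso (EtCoh.pull j)).symm
    exact ((RC.sc n).map (EtCoh.pull j)).exact_iff_isZero_homology.1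
      (ShortComplex.exact_of_isZero_X₂ _ (hjz _))
  · let C := DerivedCategory.Q.objPreimage K
    haveI : QuasiIso (((EtCoh.pull i).mapHomologicalComplex _).map (ac.unit.app C)) := by
      have e := ac.left_triangle_components C
      haveI : IsIso (((EtCoh.pull i).mapHomologicalComplex _).map (ac.unit.app C) ≫
          ac.counit.app (((EtCoh.pull i).mapHomologicalComplex _).obj C)) := by
        rw [e]; exact inferInstanceAs (IsIso (𝟙 _))
      haveI : IsIso (((EtCoh.pull i).mapHomologicalComplex _).map (ac.unit.app C)) :=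
        IsIso.of_isIso_comp_right _ (ac.counit.app (((EtCoh.pull i).mapHomologicalComplex _).obj C))
      infer_instance
    haveI : QuasiIso (((EtCoh.pull j).mapHomologicalComplex _).map (ac.unit.app C)) := by
      refine ⟨fun n => (quasiIsoAt_iff_isIso_homologyMap _ n).2 ?_⟩
      refine IsZero.isIso ?_ ?_ _
      · refine IsZero.of_iso ?_ ((C.sc n).mapHomologyIso (EtCoh.pull j))
        refine IsZero.of_iso (h n) ((EtCoh.pull j).mapIso
          ((DerivedCategory.homologyFunctorFactors (EtCoh.Ab X) n).symm.app C ≪≫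
            (DerivedCategory.homologyFunctor (EtCoh.Ab X) n).mapIso (DerivedCategory.Q.objObjPreimageIso K)))
      · exact (ShortComplex.exact_iff_isZero_homology _).1 (ShortComplex.exact_of_isZero_X₂ _ (hjz _))
    haveI : QuasiIso (ac.unit.app C) := quasiIso_of_pulls i j hcov _
    haveI : IsIso (DerivedCategory.Q.map (ac.unit.app C)) := inferInstance
    haveI : IsIso (ad.unit.app K) := by
      rw [← NatTrans.isIso_app_iff_of_iso ad.unit (DerivedCategory.Q.objObjPreimageIso K)]
      rw [Adjunction.localization_unit_app]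
      infer_instance
    exact ⟨_, ⟨(asIso (ad.unit.app K)).symm⟩⟩

end Groth.Agent.ClosedDer5
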